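import Groth.Agent.ProjDim.Regular
import Groth.Agent.RegularSerre.Localization
import Mathlib.RingTheory.KrullDimension.Basic
import Mathlib.RingTheory.Ideal.Height

/-!
A `k`-th syzygy over a ring of global dimension at most `k` is projective.
-/

set_option autoImplicit false
universe u

open CategoryTheory

namespace Groth.Agent.SyzFree

theorem projective_of_chain {R : Type u} [CommRing R] (k : ℕ) (hk : 0 < k)
    (hgl : ∀ M : ModuleCat.{u} R, HasProjectiveDimensionLT M (k + 1))
    (N : ℕ → Type u) [∀ i, AddCommGroup (N i)] [∀ i, Module R (N i)]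
    (hproj : ∀ i, 1 ≤ i → i ≤ k → Module.Projective R (N i))
    (d : ∀ i, N i →ₗ[R] N (i + 1)) (hinj : Function.Injective (d 0))
    (hex : ∀ i, i + 1 < k → LinearMap.range (d i) = LinearMap.ker (d (i + 1))) :
    Module.Projective R (N 0) := by
  have key : ∀ i j, j + i + 1 = k →
      HasProjectiveDimensionLT (ModuleCat.of R (LinearMap.range (d j))) (j + 1) := by
    intro i
    induction i with
    | zero =>
      intro j hj
      haveI := hproj (j + 1) (by omega) (by omega)
      exact (ProjDim.shift_iff (LinearMap.range (d j)).subtype (LinearMap.range (d j)).mkQ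
        Subtype.val_injective (LinearMap.exact_subtype_mkQ _) (Submodule.mkQ_surjective _) j).1
        (by have := hgl (ModuleCat.of R (N (j + 1) ⧸ LinearMap.range (d j)))
            rwa [show k + 1 = j + 2 by omega] at this)
    | succ i ih =>
      intro j hj
      haveI := hproj (j + 1) (by omega) (by omega)
      refine (ProjDim.shift_iff (LinearMap.range (d j)).subtype (d (j + 1)).rangeRestrict
        Subtype.val_injective ?_ (LinearMap.surjective_rangeRestrict _) j).1 (ih (j + 1) (by omega))
      rw [LinearMap.exact_iff, LinearMap.ker_rangeRestrict, Submodule.range_subtype, hex j (by omega)]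
  haveI := (ProjDim.projDim_zero_iff (LinearMap.range (d 0))).1 (key (k - 1) 0 (by omega))
  exact Module.Projective.of_equiv (LinearEquiv.ofInjective (d 0) hinj).symm

theorem free_localized {A : Type u} [CommRing A] [IsRegularLocalRing A] (k : ℕ)
    (N : ℕ → Type u) [∀ i, AddCommGroup (N i)] [∀ i, Module A (N i)] [Module.Finite A (N 0)]
    (hfree : ∀ i, 1 ≤ i → i ≤ k → Module.Free A (N i) ∧ Module.Finite A (N i))
    (d : ∀ i, N i →ₗ[A] N (i + 1)) (hinj : Function.Injective (d 0))
    (hex : ∀ i, i + 1 < k → LinearMap.range (d i) = LinearMap.ker (d (i + 1)))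
    (p : Ideal A) [p.IsPrime] (hp : p.height ≤ k) :
    Module.Free (Localization.AtPrime p) (LocalizedModule p.primeCompl (N 0)) := by
  let R := Localization.AtPrime p
  haveI : IsRegularLocalRing R := RegularSerre.isRegularLocalRing_localization p
  have hd : ringKrullDim R = ((IsLocalRing.maximalIdeal R).spanFinrank : WithBot ℕ∞) :=
    IsRegularLocalRing.spanFinrank_maximalIdeal.symm
  have hle : (IsLocalRing.maximalIdeal R).spanFinrank ≤ k := by
    have h1 := IsLocalization.AtPrime.ringKrullDim_eq_height p R
    rw [hd] at h1
    have h2 : ((IsLocalRing.maximalIdeal R).spanFinrank : ℕ∞) = p.height := by exact_mod_cast h1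
    exact_mod_cast h2.le.trans hp
  have hgl : ∀ M : ModuleCat.{u} R, HasProjectiveDimensionLT M (k + 1) := fun M =>
    haveI := ProjDim.gldim_le_of_regularLocal R _ hd M
    hasProjectiveDimensionLT_of_ge M ((IsLocalRing.maximalIdeal R).spanFinrank + 1) (k + 1) (by omega)
  haveI : Module.Projective R (LocalizedModule p.primeCompl (N 0)) := by
    rcases Nat.eq_zero_or_pos k with rfl | hk
    · exact (ProjDim.projDim_zero_iff _).1 (hgl _)
    refine projective_of_chain k hk hgl (fun i => LocalizedModule p.primeCompl (N i))
      (fun i h1 h2 => ?_) (fun i => LocalizedModule.map p.primeCompl (d i))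
      (LocalizedModule.map_injective p.primeCompl (d 0) hinj) (fun i hi => ?_)
    · haveI := (hfree i h1 h2).1
      haveI : Module.Free R (LocalizedModule p.primeCompl (N i)) :=
        Module.free_of_isLocalizedModule p.primeCompl (LocalizedModule.mkLinearMap p.primeCompl (N i))
      exact Module.Projective.of_free
    · have h1 := LocalizedModule.map_exact p.primeCompl (d i) (d (i + 1))
        (LinearMap.exact_iff.2 (hex i hi).symm)
      have h2 : Function.Exact (LocalizedModule.map p.primeCompl (d i))
          (LocalizedModule.map p.primeCompl (d (i + 1))) := h1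
      exact (LinearMap.exact_iff.1 h2).symm
  haveI : Module.Finite R (LocalizedModule p.primeCompl (N 0)) :=
    Module.Finite.of_isLocalizedModule p.primeCompl (LocalizedModule.mkLinearMap p.primeCompl (N 0))
  exact Module.free_of_flat_of_isLocalRing

end Groth.Agent.SyzFree
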